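import Groth.Agent.AlgSp.K621.ContrDefs
import Groth.Agent.S0040
import Groth.Agent.S0543
import Groth.Agent.Ega4late.H526.CBC

/-!
# Algebraization of a compatible system of closed subschemes over the completion (node B of S14992)

`X` separated of finite type over a field `k`, `P` a Noetherian `k`-algebra, `𝔪` an ideal, `Z m` closed subschemes of `X`
with compatible cartesian structure over `Spec (P ⧸ 𝔪^(m+1))`, `Z 0` proper: they are the thickenings of a closed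
subscheme `W` of `X ×_k Spec P^`, proper over `Spec P^` (S0040).

Author: helper295
-/

set_option autoImplicit false
universe u
open CategoryTheory CategoryTheory.Limits AlgebraicGeometry Topology TopologicalSpace K621.ContrDefs

namespace K295.ContrAlg

section ring

variable {P : Type u} [CommRing P] [IsNoetherianRing P] (𝔪 : Ideal P)

/-- the ideal `𝔪 P^` -/
noncomputable abbrev Ih : Ideal (AdicCompletion 𝔪 P) := 𝔪.map (algebraMap P (AdicCompletion 𝔪 P))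

theorem ker_eval (m : ℕ) : RingHom.ker (AdicCompletion.evalₐ 𝔪 (m + 1)).toRingHom = Ih 𝔪 ^ (m + 1) := by
  ext y
  rw [RingHom.mem_ker]
  exact (Groth.Agent.Ega4late.H526.CBC.mem_pow_map_iff 𝔪 (IsNoetherian.noetherian 𝔪) (m + 1) y).symm

/-- `P^ ⧸ (𝔪 P^)^(m+1) ≃ P ⧸ 𝔪^(m+1)` -/
noncomputable def qe (m : ℕ) : (AdicCompletion 𝔪 P ⧸ Ih 𝔪 ^ (m + 1)) ≃+* P ⧸ 𝔪 ^ (m + 1) :=
  (Ideal.quotEquivOfEq (ker_eval 𝔪 m).symm).trans
    (RingHom.quotientKerEquivOfSurjective (f := (AdicCompletion.evalₐ 𝔪 (m + 1)).toRingHom)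
      (AdicCompletion.surjective_evalₐ 𝔪 (m + 1)))

theorem qe_mk (m : ℕ) (x : AdicCompletion 𝔪 P) :
    qe 𝔪 m (Ideal.Quotient.mk _ x) = AdicCompletion.evalₐ 𝔪 (m + 1) x := rfl

omit [IsNoetherianRing P] in
theorem factor_evalₐ {m n : ℕ} (h : m ≤ n) (x : AdicCompletion 𝔪 P) :
    Ideal.Quotient.factor (Ideal.pow_le_pow_right h) (AdicCompletion.evalₐ 𝔪 n x) =
      AdicCompletion.evalₐ 𝔪 m x := by
  obtain ⟨y, rfl⟩ := AdicCompletion.mk_surjective 𝔪 P x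
  rw [AdicCompletion.evalₐ_mk, AdicCompletion.evalₐ_mk, Ideal.Quotient.factor_mk]
  exact AdicCompletion.Ideal.mk_eq_mk 𝔪 h y

theorem qe_factor (m : ℕ) (x : AdicCompletion 𝔪 P ⧸ Ih 𝔪 ^ (m + 2)) :
    qe 𝔪 m (Ideal.Quotient.factor (Ideal.pow_le_pow_right (Nat.le_succ (m + 1))) x) =
      Ideal.Quotient.factor (Ideal.pow_le_pow_right (Nat.le_succ (m + 1))) (qe 𝔪 (m + 1) x) := by
  obtain ⟨x, rfl⟩ := Ideal.Quotient.mk_surjective x
  rw [Ideal.Quotient.factor_mk, qe_mk, qe_mk]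
  exact (factor_evalₐ 𝔪 (Nat.le_succ (m + 1)) x).symm

/-- `Spec (P ⧸ 𝔪^(m+1)) ⟶ Spec (P^ ⧸ (𝔪 P^)^(m+1))` -/
noncomputable def E (m : ℕ) : Spec (CommRingCat.of (P ⧸ 𝔪 ^ (m + 1))) ⟶
    Spec (CommRingCat.of (AdicCompletion 𝔪 P ⧸ Ih 𝔪 ^ (m + 1))) :=
  Spec.map (CommRingCat.ofHom (qe 𝔪 m).toRingHom)

instance (m : ℕ) : IsIso (E 𝔪 m) := by
  have : IsIso (CommRingCat.ofHom (qe 𝔪 m).toRingHom) := (qe 𝔪 m).toCommRingCatIso.isIso_hom
  exact inferInstanceAs (IsIso (Spec.map _))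

theorem E_specQuot (m : ℕ) : E 𝔪 m ≫ CohB1.specQuot (Ih 𝔪) m =
    Spec.map (CommRingCat.ofHom (AdicCompletion.evalₐ 𝔪 (m + 1)).toRingHom) := by
  rw [E, CohB1.specQuot, ← Spec.map_comp, ← CommRingCat.ofHom_comp]
  rfl

theorem trans_E (m : ℕ) : CohB1.specQuotTrans 𝔪 m ≫ E 𝔪 (m + 1) = E 𝔪 m ≫ CohB1.specQuotTrans (Ih 𝔪) m := by
  rw [E, E, CohB1.specQuotTrans, CohB1.specQuotTrans, ← Spec.map_comp, ← Spec.map_comp, ← CommRingCat.ofHom_comp,
    ← CommRingCat.ofHom_comp]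
  congr 2
  ext x
  exact (qe_factor 𝔪 m x).symm

end ring

theorem algebraize {k : Type u} [Field k] {X : Scheme.{u}} (f : X ⟶ Spec (CommRingCat.of k))
    [LocallyOfFiniteType f] [QuasiCompact f] [IsSeparated f]
    {P : Type u} [CommRing P] [IsNoetherianRing P] [Algebra k P] (𝔪 : Ideal P)
    (Z : ℕ → Scheme.{u}) (a : ∀ m, Z m ⟶ X) [∀ m, IsClosedImmersion (a m)]
    (r : ∀ m, Z m ⟶ Spec (CommRingCat.of (P ⧸ 𝔪 ^ (m + 1))))
    (hr : ∀ m, r m ≫ Spec.map (CommRingCat.ofHom (algebraMap k _)) = a m ≫ f)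
    (t : ∀ m, Z m ⟶ Z (m + 1)) (ht : ∀ m, t m ≫ a (m + 1) = a m)
    (hp : ∀ m, IsPullback (t m) (r m) (r (m + 1)) (CohB1.specQuotTrans 𝔪 m))
    (h0 : IsProper (r 0)) :
    ∃ (W : Scheme.{u}) (φ : W ⟶ X) (q : W ⟶ Spec (CommRingCat.of (AdicCompletion 𝔪 P))) (w : ∀ m, Z m ⟶ W),
      IsProper q ∧ φ ≫ f = q ≫ Spec.map (CommRingCat.ofHom (algebraMap k _)) ∧
      (∀ m, w m ≫ φ = a m) ∧ (∀ m, t m ≫ w (m + 1) = w m) ∧
      ∀ m, IsPullback (w m) (r m) q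
        (Spec.map (CommRingCat.ofHom (AdicCompletion.evalₐ 𝔪 (m + 1)).toRingHom)) := by
  have hN : IsNoetherianRing (AdicCompletion 𝔪 P) := Groth.Agent.S0543.result P 𝔪
  have hC : IsAdicComplete (Ih 𝔪) (AdicCompletion 𝔪 P) :=
    Groth.Agent.Ega4late.H526.CBC.isAdicComplete_map 𝔪 (IsNoetherian.noetherian 𝔪)
  let b : Spec (CommRingCat.of (AdicCompletion 𝔪 P)) ⟶ Spec (CommRingCat.of k) :=
    Spec.map (CommRingCat.ofHom (algebraMap k (AdicCompletion 𝔪 P)))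
  let ev : ∀ m : ℕ, Spec (CommRingCat.of (P ⧸ 𝔪 ^ (m + 1))) ⟶ Spec (CommRingCat.of (AdicCompletion 𝔪 P)) := fun m =>
    Spec.map (CommRingCat.ofHom (AdicCompletion.evalₐ 𝔪 (m + 1)).toRingHom)
  have hev : ∀ m, ev m ≫ b = Spec.map (CommRingCat.ofHom (algebraMap k (P ⧸ 𝔪 ^ (m + 1)))) := by
    intro m
    simp only [ev, b]
    rw [← Spec.map_comp, ← CommRingCat.ofHom_comp]
    rfl
  let g : pullback f b ⟶ Spec (CommRingCat.of (AdicCompletion 𝔪 P)) := pullback.snd f b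
  have hw : ∀ m, a m ≫ f = (r m ≫ ev m) ≫ b := fun m => by
    rw [Category.assoc, hev, hr]
  let l : ∀ m, Z m ⟶ pullback f b := fun m => pullback.lift (a m) (r m ≫ ev m) (hw m)
  have hl : ∀ m, l m ≫ g = (r m ≫ E 𝔪 m) ≫ CohB1.specQuot (Ih 𝔪) m := fun m => by
    rw [Category.assoc, E_specQuot]
    exact pullback.lift_snd _ _ _
  let z : ∀ m, Z m ⟶ CohB1.thick g (Ih 𝔪) m := fun m => pullback.lift (l m) (r m ≫ E 𝔪 m) (hl m)
  have hzb : ∀ m, z m ≫ CohB1.thickToBase g (Ih 𝔪) m = r m ≫ E 𝔪 m := fun m => pullback.lift_snd _ _ _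
  have hzi : ∀ m, z m ≫ CohB1.thickι g (Ih 𝔪) m = l m := fun m => pullback.lift_fst _ _ _
  have hla : ∀ m, l m ≫ pullback.fst f b = a m := fun m => pullback.lift_fst _ _ _
  have hzc : ∀ m, IsClosedImmersion (z m) := by
    intro m
    have h1 : IsClosedImmersion (z m ≫ CohB1.thickι g (Ih 𝔪) m ≫ pullback.fst f b) := by
      rw [← Category.assoc, hzi, hla]
      infer_instance
    have h2 : IsClosedImmersion (CohB1.specQuot (Ih 𝔪) m) :=
      IsClosedImmersion.spec_of_surjective _ Ideal.Quotient.mk_surjective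
    have h3 : IsSeparated (CohB1.thickι g (Ih 𝔪) m ≫ pullback.fst f b) := inferInstance
    exact IsClosedImmersion.of_comp _ (CohB1.thickι g (Ih 𝔪) m ≫ pullback.fst f b)
  have htz : ∀ m, t m ≫ z (m + 1) = z m ≫ CohB1.thickTrans g (Ih 𝔪) m := by
    intro m
    have hi : CohB1.thickTrans g (Ih 𝔪) m ≫ CohB1.thickι g (Ih 𝔪) (m + 1) = CohB1.thickι g (Ih 𝔪) m :=
      (pullback.lift_fst _ _ _).trans (Category.comp_id _)
    have hb : CohB1.thickTrans g (Ih 𝔪) m ≫ CohB1.thickToBase g (Ih 𝔪) (m + 1) =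
        CohB1.thickToBase g (Ih 𝔪) m ≫ CohB1.specQuotTrans (Ih 𝔪) m := pullback.lift_snd _ _ _
    refine pullback.hom_ext ?_ ?_
    · change (t m ≫ z (m + 1)) ≫ CohB1.thickι g (Ih 𝔪) (m + 1) =
        (z m ≫ CohB1.thickTrans g (Ih 𝔪) m) ≫ CohB1.thickι g (Ih 𝔪) (m + 1)
      rw [Category.assoc, Category.assoc, hzi, hi, hzi]
      refine pullback.hom_ext ?_ ?_
      · rw [Category.assoc, hla, hla, ht]
      · have h1 : ∀ m, l m ≫ g = r m ≫ ev m := fun m => pullback.lift_snd _ _ _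
        change (t m ≫ l (m + 1)) ≫ g = l m ≫ g
        rw [Category.assoc, hl, hl, Category.assoc, Category.assoc, ← Category.assoc, (hp m).w, Category.assoc,
          ← Category.assoc (CohB1.specQuotTrans 𝔪 m), trans_E, Category.assoc]
        congr 2
        rw [CohB1.specQuotTrans, CohB1.specQuot, CohB1.specQuot, ← Spec.map_comp, ← CommRingCat.ofHom_comp]
        congr 2
    · change (t m ≫ z (m + 1)) ≫ CohB1.thickToBase g (Ih 𝔪) (m + 1) =
        (z m ≫ CohB1.thickTrans g (Ih 𝔪) m) ≫ CohB1.thickToBase g (Ih 𝔪) (m + 1)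
      rw [Category.assoc, Category.assoc, hzb, hb, ← Category.assoc, (hp m).w, Category.assoc, trans_E,
        ← Category.assoc, ← Category.assoc, hzb]
  have hpb : ∀ m, IsPullback (t m) (z m) (z (m + 1)) (CohB1.thickTrans g (Ih 𝔪) m) := by
    intro m
    have h1 := Groth.Agent.CohqB.AlgThick2.isPullback_thickTrans g (Ih 𝔪) m
    refine IsPullback.of_bot ?_ (htz m) h1
    rw [hzb, hzb]
    have h2 : IsPullback (CohB1.specQuotTrans 𝔪 m) (E 𝔪 m) (E 𝔪 (m + 1)) (CohB1.specQuotTrans (Ih 𝔪) m) :=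
      IsPullback.of_vert_isIso ⟨trans_E 𝔪 m⟩
    exact (hp m).paste_vert h2
  obtain ⟨W, i, w, hi, hpr, hw1, hw2⟩ := Groth.Agent.S0040.result (AdicCompletion 𝔪 P) (Ih 𝔪) g Z z t hzc hpb (by
    rw [hzb]
    infer_instance)
  refine ⟨W, i ≫ pullback.fst f b, i ≫ g, w, hpr, ?_, fun m => ?_, fun m => (hw1 m).symm, fun m => ?_⟩
  · rw [Category.assoc, Category.assoc]
    exact congrArg (i ≫ ·) pullback.condition
  · rw [← Category.assoc, (hw2 m).w, hzi, hla]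
  · have h1 : IsPullback (CohB1.thickι g (Ih 𝔪) m) (CohB1.thickToBase g (Ih 𝔪) m) g (CohB1.specQuot (Ih 𝔪) m) :=
      IsPullback.of_hasPullback _ _
    have h2 := (hw2 m).paste_vert h1
    rw [hzb] at h2
    have h3 : IsPullback (𝟙 (Z m)) (r m) (r m ≫ E 𝔪 m) (E 𝔪 m) := IsPullback.of_horiz_isIso ⟨by simp⟩
    have h4 := h3.paste_horiz h2
    rwa [Category.id_comp, E_specQuot] at h4

end K295.ContrAlg
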