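import Groth.Agent.AlgSp.K621.ContrDefs
import Groth.Agent.Sga2lef.H298.VanX0Core
import Groth.Agent.Sga2.ThickKer
import Groth.Agent.Sga2.ThickCoh
import Groth.Agent.S0051
import Groth.Agent.Models.H68.QuotMono
import Groth.Agent.Dix.IdealModCartier
import Groth.Agent.Fdesc.StructMod

/-!
# Functions lift over the thickenings of a proper subscheme with ample conormal sheaf (node A.i of S14992)

* `surjective_of_H1`: `Γ(V(I), O) → Γ(V(J), O)` is surjective if `H^1` of the kernel of `O/I → O/J` vanishes;
* `lift_functions`: for an effective Cartier ideal `D` with proper zero scheme and ample conormal sheaf, functions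
  lift from `V(D^m)` to `V(D^(m+1))` for large `m`.

Author: helper295
-/

set_option autoImplicit false
universe u
open CategoryTheory CategoryTheory.Limits AlgebraicGeometry Topology TopologicalSpace K621.ContrDefs

namespace K295.ContrLift

open Groth.Agent Groth.Agent.VarietyA.EulerLES Groth.Agent.CurvesB Groth.Agent.Models.H68.QuotMono

theorem surjective_of_H1 {X : Scheme.{u}} {I J : X.IdealSheafData} (h : I ≤ J)
    (h1 : Subsingleton (Coh.HH X (kernel (Lef.quotMap h)) 1)) :
    Function.Surjective (Scheme.IdealSheafData.inclusion h).appTop := by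
  intro s
  obtain ⟨x, hx⟩ := (exact₃ (seq h) (shortExact_seq h) 0 1 rfl
    ((HZero.equivAdd (ClSub.quotMod J)).symm s)).mp
    (@Subsingleton.elim (Coh.HH X (kernel (Lef.quotMap h)) 1) h1 _ _)
  refine ⟨HZero.equivAdd (ClSub.quotMod I) x, ?_⟩
  have hy := (HZero.equivAdd_map (Lef.quotMap h) x).trans (Sga2.LefBasic.quotMap_app_top h _)
  refine hy.symm.trans ?_
  have h2 : HZero.equivAdd (ClSub.quotMod J) (mapΓ (Lef.quotMap h) 0 x) =
      HZero.equivAdd (ClSub.quotMod J) ((HZero.equivAdd (ClSub.quotMod J)).symm s) := congrArg _ hx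
  exact h2.trans (AddEquiv.apply_symm_apply _ _)

theorem lift_functions {k : Type u} [Field k] {X : Scheme.{u}} (f : X ⟶ Spec (CommRingCat.of k))
    [LocallyOfFiniteType f] [QuasiCompact f] [IsSeparated f] (D : X.IdealSheafData)
    (hD : BlowUp.IsEffCartierIdeal D) [IsProper (D.subschemeι ≫ f)]
    (hamp : CohB1.IsAmple ((Scheme.Modules.pullback D.subschemeι).obj (ClSub.idealMod D))) :
    ∃ m₀ : ℕ, ∀ m, m₀ ≤ m →
      Function.Surjective (Scheme.IdealSheafData.inclusion (pow_anti D (Nat.le_succ m))).appTop := by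
  have hP := Dix.IdealModCartier.isInvertible_idealMod hD
  obtain ⟨m₀, hm₀⟩ := (Groth.Agent.S0051.result k D.subscheme (D.subschemeι ≫ f) _ hamp.1).1 hamp
    (Coh.structureModule D.subscheme) (Fdesc.StructMod.isCoh_structureModule D.subscheme)
  refine ⟨m₀, fun m hm => ?_⟩
  obtain ⟨e⟩ := Sga2.ThickKer.kernel_iso hD (a := 1) (b := m) (c := m + 1) (Nat.add_comm m 1)
    (pow_anti D (Nat.le_succ m))
  have hv := Sga2lef.H298.VanX0Core.vanish_pushforward D.subschemeι hP (Coh.structureModule D.subscheme) m 1
    (hm₀ m hm 1 one_pos)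
  apply surjective_of_H1
  apply Sga2.ThickCoh.subsingleton_HH_of_iso e
  rw [pow_one]
  exact hv

end K295.ContrLift
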